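import Cfsg.Agent.H909.AltGen
import Cfsg.Agent.N2.Tri.Defs

/-!
# N2, class S, alternating socle: a checker for generating pairs of `A_n` (helper62)

A permutation of `Fin n` is coded by a number, digit `i` in base 32 is the image of `i`.
-/

set_option autoImplicit false
set_option maxHeartbeats 400000

namespace Cfsg.Agent.N2C.RAlt

open Equiv

/-- digit `i` in base 32 -/
def dg (c i : ℕ) : ℕ := c / 32 ^ i % 32

/-- `f` applied `k` times -/
def it (f : ℕ → ℕ) (k i : ℕ) : ℕ := Nat.rec i (fun _ a => f a) k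

theorem it_succ (f : ℕ → ℕ) (k i : ℕ) : it f (k + 1) i = f (it f k i) := rfl

/-- the permutation `σ` is given by `f` -/
def Rp {n : ℕ} (σ : Perm (Fin n)) (f : ℕ → ℕ) : Prop := ∀ i : Fin n, (σ i : ℕ) = f i

variable {n : ℕ} {σ τ : Perm (Fin n)} {f g : ℕ → ℕ}

theorem Rp.mul (h : Rp σ f) (k : Rp τ g) : Rp (σ * τ) fun i => f (g i) := fun i => by
  rw [Perm.mul_apply, h, k]

theorem Rp.pow (h : Rp σ f) (k : ℕ) : Rp (σ ^ k) (it f k) := by
  induction k with
  | zero => exact fun i => rfl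
  | succ k ih => exact fun i => by rw [pow_succ', Perm.mul_apply, h, ih, it_succ]

theorem Rp.eq_one (h : Rp σ f) (h1 : ((List.range n).all fun i => f i == i) = true) : σ = 1 := by
  ext i
  rw [h]
  simpa using List.all_eq_true.1 h1 i (List.mem_range.2 i.2)

theorem Rp.eq (h : Rp σ f) (k : Rp τ g) (h1 : ((List.range n).all fun i => f i == g i) = true) : σ = τ := by
  ext i
  rw [h, k]
  simpa using List.all_eq_true.1 h1 i (List.mem_range.2 i.2)

/-- the number of moved points -/
def mv (n : ℕ) (f : ℕ → ℕ) : ℕ := (List.range n).countP fun i => f i != i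

theorem Rp.card_support (h : Rp σ f) : σ.support.card = mv n f := by
  unfold mv
  rw [List.countP_eq_length_filter, ← List.toFinset_card_of_nodup (List.nodup_range.filter _)]
  refine Finset.card_bij (fun i _ => (i : ℕ)) (fun i hi => ?_) (fun i _ j _ e => Fin.ext e) fun j hj => ?_
  · rw [List.mem_toFinset, List.mem_filter, List.mem_range, ← h]
    exact ⟨i.2, by simpa [Fin.ext_iff] using hi⟩
  · rw [List.mem_toFinset, List.mem_filter, List.mem_range] at hj
    refine ⟨⟨j, hj.1⟩, ?_, rfl⟩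
    rw [Perm.mem_support, Ne, Fin.ext_iff, h]
    simpa using hj.2

theorem exists_rp {b : ℕ} (h1 : ((List.range n).all fun i => decide (f i < n)) = true)
    (h2 : ((List.range n).all fun i => it f (b + 1) i == i) = true) : ∃ σ : Perm (Fin n), Rp σ f ∧ σ ^ (b + 1) = 1 := by
  have h3 : ∀ i : Fin n, f i < n := fun i => by simpa using List.all_eq_true.1 h1 i (List.mem_range.2 i.2)
  have h4 : ∀ i : Fin n, it f (b + 1) i = i := fun i => by simpa using List.all_eq_true.1 h2 i (List.mem_range.2 i.2)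
  let F : Fin n → Fin n := fun i => ⟨f i, h3 i⟩
  have h5 : ∀ k (i : Fin n), ((F^[k] i : Fin n) : ℕ) = it f k i := by
    intro k i
    induction k with
    | zero => rfl
    | succ k ih => rw [Function.iterate_succ_apply', it_succ, ← ih]
  have h6 : Function.Injective F := Function.LeftInverse.injective (g := F^[b]) fun i => Fin.ext (by
    rw [← Function.iterate_succ_apply, h5, h4])
  have h7 : Rp (Equiv.ofBijective F (Finite.injective_iff_bijective.1 h6)) f := fun i => rfl
  exact ⟨_, h7, (h7.pow (b + 1)).eq_one h2⟩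

/-- a word: binary digits below the leading one, `0` for `f`, `1` for `g` -/
def wd (f g : ℕ → ℕ) (w : List Bool) (i : ℕ) : ℕ := w.foldr (fun c a => bif c then g a else f a) i

theorem exists_wd (h : Rp σ f) (k : Rp τ g) (w : List Bool) : ∃ c ∈ Subgroup.closure {σ, τ}, Rp c (wd f g w) := by
  induction w with
  | nil => exact ⟨1, one_mem _, fun i => rfl⟩
  | cons a w ih =>
    obtain ⟨c, hc, e⟩ := ih
    cases a
    · exact ⟨σ * c, mul_mem (Subgroup.subset_closure (by simp)) hc, h.mul e⟩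
    · exact ⟨τ * c, mul_mem (Subgroup.subset_closure (by simp)) hc, k.mul e⟩

/-- the action on coded pairs -/
def pr (n : ℕ) (f : ℕ → ℕ) (a : ℕ) : ℕ := f (a / n) * n + f (a % n)

/-- evaluate `x` first -/
def frc {β : Type} (x : ℕ) (k : ℕ → β) : β := Nat.rec (k 0) (fun m _ => k (Nat.succ m)) x

theorem frc_eq {β : Type} (x : ℕ) (k : ℕ → β) : frc x k = k x := by cases x <;> rfl

/-- one pass through the first `l` pairs -/
def pas (n : ℕ) (f g : ℕ → ℕ) (l : ℕ) : ℕ → ℕ :=
  Nat.rec (fun s => s) (fun a ih s => frc (bif s.testBit a then s ||| 2 ^ pr n f a ||| 2 ^ pr n g a else s) ih) l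

/-- one pass through all pairs -/
def pass (n : ℕ) (f g : ℕ → ℕ) (s : ℕ) : ℕ := pas n f g (n * n) s

theorem pass_sound {P : ℕ → Prop} (hf : ∀ a, P a → P (pr n f a)) (hg : ∀ a, P a → P (pr n g a)) {s : ℕ}
    (hs : ∀ a, s.testBit a = true → P a) : ∀ a, (pass n f g s).testBit a = true → P a := by
  unfold pass
  generalize n * n = l
  induction l generalizing s with
  | zero => exact hs
  | succ b ih =>
    rw [show pas n f g (b + 1) s = frc (bif s.testBit b then s ||| 2 ^ pr n f b ||| 2 ^ pr n g b else s) (pas n f g b)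
      from rfl, frc_eq]
    refine ih fun a ha => ?_
    cases hb : s.testBit b
    · rw [hb, cond_false] at ha
      exact hs a ha
    · rw [hb, cond_true, Nat.testBit_or, Nat.testBit_or, Bool.or_eq_true, Bool.or_eq_true, Nat.testBit_two_pow,
        Nat.testBit_two_pow, decide_eq_true_iff, decide_eq_true_iff] at ha
      rcases ha with (ha | ha) | ha
      · exact hs a ha
      · exact ha ▸ hf b (hs b hb)
      · exact ha ▸ hg b (hs b hb)

/-- the group is 2-transitive -/
def two (n : ℕ) (f g : ℕ → ℕ) (m : ℕ) : Bool :=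
  frc (it (pass n f g) m 2) fun s => (List.range n).all fun a => (List.range n).all fun b => a == b || Nat.testBit s (a * n + b)

theorem two_sound (hn : 2 ≤ n) (h : Rp σ f) (k : Rp τ g) {m : ℕ} (h2 : two n f g m = true) (a b : Fin n) (hab : a ≠ b) :
    ∃ c ∈ Subgroup.closure {σ, τ}, c ⟨0, by omega⟩ = a ∧ c ⟨1, by omega⟩ = b := by
  let P : ℕ → Prop := fun x => ∃ c ∈ Subgroup.closure {σ, τ},
    x = (c ⟨0, by omega⟩ : ℕ) * n + (c ⟨1, by omega⟩ : ℕ)
  have dv : ∀ u v : Fin n, ((u : ℕ) * n + v) / n = u ∧ ((u : ℕ) * n + v) % n = v := fun u v =>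
    ⟨by rw [mul_comm, Nat.mul_add_div (by omega), Nat.div_eq_of_lt v.2, add_zero],
      by rw [mul_comm, Nat.mul_add_mod, Nat.mod_eq_of_lt v.2]⟩
  have st : ∀ {ρ : Perm (Fin n)} {e : ℕ → ℕ}, Rp ρ e → ρ ∈ Subgroup.closure {σ, τ} → ∀ x, P x → P (pr n e x) := by
    rintro ρ e h1 h3 _ ⟨c, hc, rfl⟩
    refine ⟨ρ * c, mul_mem h3 hc, ?_⟩
    rw [pr, (dv _ _).1, (dv _ _).2, Perm.mul_apply, Perm.mul_apply, h1, h1]
  have h3 : ∀ j x, (it (pass n f g) j 2).testBit x = true → P x := by
    intro j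
    induction j with
    | zero =>
      intro x hx
      rw [show it (pass n f g) 0 2 = 2 ^ 1 from rfl, Nat.testBit_two_pow, decide_eq_true_iff] at hx
      exact ⟨1, one_mem _, by simp [← hx]⟩
    | succ j ih =>
      exact pass_sound (st h (Subgroup.subset_closure (by simp))) (st k (Subgroup.subset_closure (by simp))) ih
  rw [two, frc_eq] at h2
  have h4 := List.all_eq_true.1 (List.all_eq_true.1 h2 a (List.mem_range.2 a.2)) b (List.mem_range.2 b.2)
  rw [Bool.or_eq_true, beq_iff_eq, or_iff_right fun e => hab (Fin.ext e)] at h4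
  obtain ⟨c, hc, e⟩ := h3 m _ h4
  refine ⟨c, hc, Fin.ext ?_, Fin.ext ?_⟩
  · rw [← (dv a b).1, e, (dv _ _).1]
  · rw [← (dv a b).2, e, (dv _ _).2]

theorem sign_of_odd {α : Type} [Fintype α] [DecidableEq α] {σ : Perm α} {r : ℕ} (hr : Odd r) (h : σ ^ r = 1) :
    Perm.sign σ = 1 := by
  have h1 : (Perm.sign σ) ^ r = 1 := by rw [← map_pow, h, map_one]
  rcases Int.units_eq_one_or (Perm.sign σ) with h2 | h2
  · exact h2
  · rw [h2, hr.neg_one_pow] at h1
    exact absurd h1 (by decide)

theorem sign_of_sq {α : Type} [Fintype α] [DecidableEq α] {σ : Perm α} (h : σ ^ 2 = 1) (h4 : σ.support.card % 4 = 0) :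
    Perm.sign σ = 1 := by
  have : Fact (Nat.Prime 2) := ⟨Nat.prime_two⟩
  have h1 := Perm.cycleType_of_pow_prime_eq_one h
  have h2 := σ.sum_cycleType
  rw [h1, Multiset.sum_replicate, smul_eq_mul] at h2
  rw [Perm.sign_of_cycleType, σ.sum_cycleType]
  exact Even.neg_one_pow ⟨_, show _ = 3 * (σ.support.card / 4) + 3 * (σ.support.card / 4) by omega⟩

/-- the check: `x ^ (a + 1) = y ^ (b + 1) = 1`, `x y` has odd order `r`, `x` is even, the group is 2-transitive and the
`k`-th power of the word `w` is a 3-cycle -/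
def ok (n x y a b r : ℕ) (w : List Bool) (k m : ℕ) : Bool :=
  ((List.range n).all fun i => decide (dg x i < n)) && ((List.range n).all fun i => it (dg x) (a + 1) i == i) &&
  ((List.range n).all fun i => decide (dg y i < n)) && ((List.range n).all fun i => it (dg y) (b + 1) i == i) &&
  ((List.range n).all fun i => it (fun j => dg x (dg y j)) r i == i) && (r % 2 == 1) &&
  (a % 2 == 0 || (a == 1 && mv n (dg x) % 4 == 0)) &&
  ((List.range r).all fun j => j == 0 || mv n (it (fun j => dg x (dg y j)) j) != 0) &&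
  (mv n (it (wd (dg x) (dg y) w) k) == 3) && two n (dg x) (dg y) m

/-- **generating triples** -/
theorem tri_of {x y a b r k m : ℕ} {w : List Bool} (hn : 2 ≤ n) (h : ok n x y a b r w k m = true) :
    N2.Tg.Tri (alternatingGroup (Fin n)) (a + 1) (b + 1) r := by
  simp only [ok, Bool.and_eq_true, Bool.or_eq_true, beq_iff_eq] at h
  obtain ⟨⟨⟨⟨⟨⟨⟨⟨⟨h1, h2⟩, h3⟩, h4⟩, h5⟩, h6⟩, h7⟩, h8⟩, h9⟩, h10⟩ := h
  obtain ⟨σ, hσ, e1⟩ := exists_rp h1 h2
  obtain ⟨τ, hτ, e2⟩ := exists_rp h3 h4
  have e3 : (σ * τ) ^ r = 1 := ((hσ.mul hτ).pow r).eq_one h5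
  have s1 : Perm.sign σ = 1 := by
    rcases h7 with h7 | ⟨rfl, h7⟩
    · exact sign_of_odd (Nat.odd_iff.2 (by omega)) e1
    · exact sign_of_sq e1 (by rw [hσ.card_support]; exact h7)
  have s2 : Perm.sign τ = 1 := by
    have := sign_of_odd (Nat.odd_iff.2 h6) e3
    rwa [map_mul, s1, one_mul] at this
  obtain ⟨c, hc, e4⟩ := exists_wd hσ hτ w
  have e5 : (c ^ k).IsThreeCycle := card_support_eq_three_iff.1 (by rw [(e4.pow k).card_support]; exact h9)
  refine ⟨⟨σ, s1⟩, ⟨τ, s2⟩, Subtype.ext e1, Subtype.ext e2, ?_, H909.AltGen.gen' _ ?_⟩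
  · rw [← Subgroup.orderOf_coe]
    refine (orderOf_eq_iff (by omega)).2 ⟨e3, fun j hj h0 e => ?_⟩
    have e6 := List.all_eq_true.1 h8 j (List.mem_range.2 hj)
    rw [← ((hσ.mul hτ).pow j).card_support, show (σ * τ) ^ j = 1 from e, Perm.support_one, Finset.card_empty] at e6
    simp only [bne_self_eq_false, Bool.or_false, beq_iff_eq] at e6
    omega
  rw [Set.image_pair]
  refine H909.AltGen.gen _ ?_ (i₀ := ⟨0, by omega⟩) (j₀ := ⟨1, by omega⟩) (by simp) (two_sound hn hσ hτ h10)
    (pow_mem hc k) e5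
  rintro _ (rfl | rfl)
  · exact s1
  · exact s2

end Cfsg.Agent.N2C.RAlt
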