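import Cfsg.Agent.N2.Cl.RX.Defs
import Cfsg.Agent.N2.Cl.RAlt.Gen
import Cfsg.Agent.TH.Sim.LieDeg
import Cfsg.Agent.S2653
import Cfsg.Agent.H937.T2Rep
import Cfsg.Agent.H464.L2G
import Cfsg.Agent.S0252
import Cfsg.Agent.S0256

/-!
# N2, class S, alternating socle: degrees, excluded characteristics, `A₆` over the field of two elements (helper62)
-/

set_option autoImplicit false
set_option maxHeartbeats 400000

namespace Cfsg.Agent.N2C.RAlt

open Cfsg Cfsg.Geo Matrix Cfsg.Agent.N2C.RX Cfsg.Agent.H915.LD Cfsg.Agent.H464.Sl2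

theorem tri_10_2_6_5 : N2.Tg.Tri (alternatingGroup (Fin 10)) 2 6 5 :=
  tri_of (a := 1) (b := 5) (x := 324632021401794) (y := 35427214102819) (w := [false, true, true, true]) (k := 5) (m := 7)
    (by norm_num) (by decide +kernel)

variable {t : Kd} {n q p m : ℕ} {N : Type} [Group N]

theorem lie_of_alt (e : N ≃* alternatingGroup (Fin m))
    (h : m = 5 ∧ (p = 2 ∨ p = 5) ∨ m = 6 ∧ p = 3 ∨ m = 8 ∧ p = 2) : IsLieTypeChar p N := by
  have := Fact.mk Nat.prime_three
  have := Fact.mk Nat.prime_five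
  have := Fintype.ofFinite (GaloisField 2 2)
  have := Fintype.ofFinite (GaloisField 3 2)
  have h4 : Fintype.card (GaloisField 2 2) = 4 := Nat.card_eq_fintype_card.symm.trans (GaloisField.card 2 2 two_ne_zero)
  have h9 : Fintype.card (GaloisField 3 2) = 9 := Nat.card_eq_fintype_card.symm.trans (GaloisField.card 3 2 two_ne_zero)
  rcases h with ⟨rfl, rfl | rfl⟩ | ⟨rfl, rfl⟩ | ⟨rfl, rfl⟩
  · obtain ⟨f⟩ := S0252.result h4
    exact Or.inl ⟨_, inferInstance, inferInstance, inferInstance, 2, le_rfl, fun _ => h4.ge, ⟨e.trans f.symm⟩⟩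
  · obtain ⟨f⟩ := S0253.result (ZMod.card 5)
    exact Or.inl ⟨_, inferInstance, inferInstance, inferInstance, 2, le_rfl, fun _ => by rw [ZMod.card]; omega, ⟨e.trans f.symm⟩⟩
  · obtain ⟨f⟩ := S0254.result h9
    exact Or.inl ⟨_, inferInstance, inferInstance, inferInstance, 2, le_rfl, fun _ => by omega, ⟨e.trans f.symm⟩⟩
  · obtain ⟨f⟩ := S0256.result (ZMod.card 2)
    exact Or.inl ⟨_, inferInstance, inferInstance, inferInstance, 4, by omega, fun h => by omega, ⟨e.trans f.symm⟩⟩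

/-- degree at least nine -/
theorem deg_nine (hp : p.Prime) (h : Cr t n q p N) (e : N ≃* alternatingGroup (Fin m)) (hm : 9 ≤ m) :
    m - 1 - (if p ∣ m then 1 else 0) ≤ n := by
  obtain ⟨K, _, _, P, _, -, -, ⟨f⟩, -⟩ := h
  have := Fact.mk hp
  exact S2653.result p n m P ((scalars (Fin n) K).subgroupOf P) ⟨f.trans e⟩ hm

theorem le_of_LS {r b : ℕ} (hp : p.Prime) (hr : r.Prime) (hpr : p ≠ r) (h : Cr t n q p N) (hL : H203.LS.LS.{0, 0, 0} r b N) :
    b ≤ n := by
  obtain ⟨K, _, _, P, _, -, hC, ⟨f⟩, -⟩ := h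
  have := Fact.mk hp
  refine hL P (f.toMonoidHom.comp (toSoc P)) (f.surjective.comp (toSoc_surjective P))
    (by rw [ker_comp f]; exact scalars_le_center) hC.commutator_top K (H937.T2.prime_ne_zero p hr hpr) n P.subtype fun k => ?_
  have h1 : ∀ a : P, a = 1 := fun a => Subtype.ext (DFunLike.congr_fun k a)
  refine hC.nonabelian ⟨⟨fun a b => ?_⟩⟩
  obtain ⟨a, rfl⟩ := QuotientGroup.mk_surjective a
  obtain ⟨b, rfl⟩ := QuotientGroup.mk_surjective b
  rw [h1 a, h1 b]

theorem deg_eight (hp : p.Prime) (h2 : p ≠ 2) (h : Cr t n q p N) (e : N ≃* alternatingGroup (Fin 8)) : 7 ≤ n :=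
  le_of_LS hp Nat.prime_two h2 h (TH.Sim.LieN.ls_a8.congr e.symm)

/-- **`A₆` over the field of two elements** -/
theorem not_six (h : Cr t n 2 2 N) (ht : bil t) (e : N ≃* alternatingGroup (Fin 6)) (hn : n = 6 ∨ n = 8) : False := by
  classical
  obtain ⟨K, _, _, P, _, hK, hC, ⟨f⟩, hs, -⟩ := h
  have := Fact.mk Nat.prime_two
  have h1 : Fintype.card K = 2 := by cases t <;> first | exact hK | exact ht.elim
  have h2 : Nat.card ((scalars (Fin n) K).subgroupOf P) = 1 := by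
    have h3 : zz t 2 = 1 := by cases t <;> first | rfl | exact ht.elim
    rwa [h3, Nat.gcd_one_right, Nat.dvd_one] at hs
  rcases hn with rfl | rfl
  · have h3 := H937.T2.a6_dims 2 hC (f.trans e) (by rw [h2]; norm_num) (by norm_num)
    rw [Fintype.card_fin] at h3
    exact absurd h3 (by decide)
  obtain ⟨E, _, _, hE, _, ⟨g⟩⟩ := H937.T2.exists_nine (f.trans e)
  obtain ⟨ρ, hρ, -⟩ := H937.T2.exists_rep hC Nat.prime_three (by omega) (by rw [h2]; norm_num) g
  obtain ⟨τ, hτ⟩ := exists_Gen E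
  obtain ⟨ζ, z0, z1, z2, -, -, -, -, -, z3⟩ := cusp_field 2 hC ρ hρ (by omega) (by omega) (by rw [hE, Fintype.card_fin]) hτ
  have h3 : CharP (AlgebraicClosure K) 2 := charP_of_injective_algebraMap (algebraMap K (AlgebraicClosure K)).injective 2
  have h4 : ζ ≠ 1 := fun k => z2 (by rw [hE]; decide) (by rw [k, CharTwo.neg_eq])
  rw [hE] at z1
  rcases (z3 1).1 (fun x _ => by rw [pow_one, ← h1, FiniteField.pow_card]) with k | k
  · rw [pow_one, sq] at k
    exact h4 (mul_left_cancel₀ z0 (k.trans (mul_one ζ).symm))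
  · have h5 : ζ ^ 3 = 1 := by rw [pow_succ, ← pow_one 2, k, inv_mul_cancel₀ z0]
    rw [show 9 + 1 = 3 * 3 + 1 from rfl, pow_succ, pow_mul, h5, one_pow, one_mul] at z1
    exact h4 z1

end Cfsg.Agent.N2C.RAlt
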