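import Cfsg.Agent.N2.Cl.RAlt.Gen

/-!
# N2, class S, alternating socle: generating triples (helper62)

`tri_c_a_b_r : Tri (alternatingGroup (Fin c)) a b r`.
-/

set_option autoImplicit false
set_option maxHeartbeats 400000

namespace Cfsg.Agent.N2C.RAlt

open Cfsg.Agent.N2.Tg

theorem tri_5_2_3_5 : Tri (alternatingGroup (Fin 5)) 2 3 5 :=
  tri_of (a := 1) (b := 2) (x := 3277888) (y := 100481)
    (w := [false, true, false, true, false, true, true])
    (k := 1) (m := 6) (by norm_num) (by decide +kernel)

theorem tri_6_2_4_5 : Tri (alternatingGroup (Fin 6)) 2 4 5 :=
  tri_of (a := 1) (b := 3) (x := 171051009) (y := 2229349)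
    (w := [false, true, true, true, false, true, true, false, true])
    (k := 1) (m := 5) (by norm_num) (by decide +kernel)

theorem tri_7_2_4_7 : Tri (alternatingGroup (Fin 7)) 2 4 7 :=
  tri_of (a := 1) (b := 3) (x := 139560998) (y := 4401960000)
    (w := [false, true, true])
    (k := 2) (m := 5) (by norm_num) (by decide +kernel)

theorem tri_8_2_5_7 : Tri (alternatingGroup (Fin 8)) 2 5 7 :=
  tri_of (a := 1) (b := 4) (x := 174184339457) (y := 245991741474)
    (w := [false, true, true])
    (k := 5) (m := 5) (by norm_num) (by decide +kernel)

theorem tri_8_3_4_7 : Tri (alternatingGroup (Fin 8)) 3 4 7 :=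
  tri_of (a := 2) (b := 3) (x := 247132589090) (y := 175222521924)
    (w := [false, true, true, false, true, false, true, false, true, true, false, true])
    (k := 1) (m := 6) (by norm_num) (by decide +kernel)

theorem tri_8_3_4_5 : Tri (alternatingGroup (Fin 8)) 3 4 5 :=
  tri_of (a := 2) (b := 3) (x := 40972288100) (y := 3429929122)
    (w := [false, true, false, true, true, true, false, true, true, true, false, true, false, true, true])
    (k := 1) (m := 6) (by norm_num) (by decide +kernel)

theorem tri_9_2_4_7 : Tri (alternatingGroup (Fin 9)) 2 4 7 :=
  tri_of (a := 1) (b := 3) (x := 1344431882498) (y := 110797949188)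
    (w := [false, true, false, true, true, true, false, true, false, true, true])
    (k := 2) (m := 6) (by norm_num) (by decide +kernel)

theorem tri_10_2_5_7 : Tri (alternatingGroup (Fin 10)) 2 5 7 :=
  tri_of (a := 1) (b := 4) (x := 291442691087488) (y := 45188426965127)
    (w := [false, true, false, true, true, true])
    (k := 4) (m := 7) (by norm_num) (by decide +kernel)

theorem tri_11_2_3_11 : Tri (alternatingGroup (Fin 11)) 2 3 11 :=
  tri_of (a := 1) (b := 2) (x := 3703331497510913) (y := 106968484391042)
    (w := [false, true, false, true, true, false, true])
    (k := 4) (m := 10) (by norm_num) (by decide +kernel)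

theorem tri_12_2_3_11 : Tri (alternatingGroup (Fin 12)) 2 3 11 :=
  tri_of (a := 1) (b := 2) (x := 44235901951447392) (y := 118511964813040994)
    (w := [false, true, false, true, true, false, true, false, true, false, true, true, false, true, true])
    (k := 4) (m := 10) (by norm_num) (by decide +kernel)

theorem tri_13_2_3_13 : Tri (alternatingGroup (Fin 13)) 2 3 13 :=
  tri_of (a := 1) (b := 2) (x := 10633421311828986056) (y := 11646462820644749377)
    (w := [false, true, true, false, true, false, true, true, false, true, true, false, true, false, true])
    (k := 4) (m := 10) (by norm_num) (by decide +kernel)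

theorem tri_13_2_4_11 : Tri (alternatingGroup (Fin 13)) 2 4 11 :=
  tri_of (a := 1) (b := 3) (x := 4830119580305238121) (y := 9367534754192364650)
    (w := [false, true, true, false, true, false, true, false, true, true, false, true, false, true])
    (k := 4) (m := 9) (by norm_num) (by decide +kernel)

theorem tri_14_2_3_13 : Tri (alternatingGroup (Fin 14)) 2 3 13 :=
  tri_of (a := 1) (b := 2) (x := 235234452268846819687) (y := 89182638553888338150)
    (w := [false, true, true, false, true])
    (k := 11) (m := 9) (by norm_num) (by decide +kernel)

theorem tri_14_2_4_11 : Tri (alternatingGroup (Fin 14)) 2 4 11 :=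
  tri_of (a := 1) (b := 3) (x := 382928767317280138470) (y := 4984818527752064390)
    (w := [false, true, false, true, true, true, false, true, true])
    (k := 2) (m := 12) (by norm_num) (by decide +kernel)

theorem tri_15_2_3_13 : Tri (alternatingGroup (Fin 15)) 2 3 13 :=
  tri_of (a := 1) (b := 2) (x := 5210388184932246686920) (y := 3911006252673848750210)
    (w := [false, true, false, true, true])
    (k := 11) (m := 11) (by norm_num) (by decide +kernel)

theorem tri_16_2_3_13 : Tri (alternatingGroup (Fin 16)) 2 3 13 :=
  tri_of (a := 1) (b := 2) (x := 546801990790942150763722) (y := 266831231412680384423178)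
    (w := [false, true, false, true, false, true, false, true, false, true, true])
    (k := 10) (m := 10) (by norm_num) (by decide +kernel)

theorem tri_17_2_3_17 : Tri (alternatingGroup (Fin 17)) 2 3 17 :=
  tri_of (a := 1) (b := 2) (x := 13606362824249794730688930) (y := 1284982255788893974892939)
    (w := [false, true, true, false, true, false, true])
    (k := 13) (m := 13) (by norm_num) (by decide +kernel)

theorem tri_17_2_4_13 : Tri (alternatingGroup (Fin 17)) 2 4 13 :=
  tri_of (a := 1) (b := 3) (x := 18739948635302088702696899) (y := 16295902216799035279285640)
    (w := [false, true, true, true, false, true, false, true, true, false, true])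
    (k := 8) (m := 9) (by norm_num) (by decide +kernel)

theorem tri_18_2_3_17 : Tri (alternatingGroup (Fin 18)) 2 3 17 :=
  tri_of (a := 1) (b := 2) (x := 97297757846262602812015660) (y := 478018015008586111811787887)
    (w := [false, true, true, false, true, false, true, true, false, true])
    (k := 4) (m := 11) (by norm_num) (by decide +kernel)

theorem tri_19_2_3_17 : Tri (alternatingGroup (Fin 19)) 2 3 17 :=
  tri_of (a := 1) (b := 2) (x := 18969951705129031733437961344) (y := 8029102193929704122047899909)
    (w := [false, true, true, false, true])
    (k := 14) (m := 12) (by norm_num) (by decide +kernel)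

theorem tri_20_2_3_17 : Tri (alternatingGroup (Fin 20)) 2 3 17 :=
  tri_of (a := 1) (b := 2) (x := 256371546221136082843840583175) (y := 365585746786292252795068776968)
    (w := [false, true, false, true, true, false, true, false, true])
    (k := 17) (m := 10) (by norm_num) (by decide +kernel)

theorem tri_19_2_3_19 : Tri (alternatingGroup (Fin 19)) 2 3 19 :=
  tri_of (a := 1) (b := 2) (x := 329219092733421534833681458) (y := 1943159812436283823206405673)
    (w := [false, true, false, true, false, true, false, true, false, true, false, true, true])
    (k := 5) (m := 13) (by norm_num) (by decide +kernel)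

theorem tri_20_2_3_19 : Tri (alternatingGroup (Fin 20)) 2 3 19 :=
  tri_of (a := 1) (b := 2) (x := 651527659922991869111713411565) (y := 609359475111721342407058490537)
    (w := [false, true, true, false, true, false, true, false, true, false, true])
    (k := 8) (m := 12) (by norm_num) (by decide +kernel)

theorem tri_21_2_3_19 : Tri (alternatingGroup (Fin 21)) 2 3 19 :=
  tri_of (a := 1) (b := 2) (x := 5719576865417066812943047824832) (y := 13113979999962237567523831225445)
    (w := [false, true, true, false, true, false, true, true, false, true, true, false, true, false, true])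
    (k := 4) (m := 11) (by norm_num) (by decide +kernel)

theorem tri_22_2_3_19 : Tri (alternatingGroup (Fin 22)) 2 3 19 :=
  tri_of (a := 1) (b := 2) (x := 699241359644030975516000407134569) (y := 455626979582321555745343706309123)
    (w := [false, true, false, true, true, false, true])
    (k := 19) (m := 14) (by norm_num) (by decide +kernel)

theorem tri_8_2_4_15 : Tri (alternatingGroup (Fin 8)) 2 4 15 :=
  tri_of (a := 1) (b := 3) (x := 243911559169) (y := 74094513380)
    (w := [false, true])
    (k := 5) (m := 7) (by norm_num) (by decide +kernel)

theorem tri_9_2_3_15 : Tri (alternatingGroup (Fin 9)) 2 3 15 :=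
  tri_of (a := 1) (b := 2) (x := 2342945562787) (y := 2309887300737)
    (w := [false, true])
    (k := 5) (m := 9) (by norm_num) (by decide +kernel)

theorem tri_10_2_3_21 : Tri (alternatingGroup (Fin 10)) 2 3 21 :=
  tri_of (a := 1) (b := 2) (x := 316800050071720) (y := 2483670883366)
    (w := [false, true])
    (k := 7) (m := 9) (by norm_num) (by decide +kernel)

theorem tri_10_2_3_9 : Tri (alternatingGroup (Fin 10)) 2 3 9 :=
  tri_of (a := 1) (b := 2) (x := 149570098141413) (y := 212210216575043)
    (w := [false, true, true, false, true, false, true])
    (k := 4) (m := 7) (by norm_num) (by decide +kernel)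

theorem tri_10_2_7_5 : Tri (alternatingGroup (Fin 10)) 2 7 5 :=
  tri_of (a := 1) (b := 6) (x := 75907373049060) (y := 316771257226274)
    (w := [false, true, false, true, true, true])
    (k := 4) (m := 7) (by norm_num) (by decide +kernel)

theorem tri_15_2_3_7 : Tri (alternatingGroup (Fin 15)) 2 3 7 :=
  tri_of (a := 1) (b := 2) (x := 16874416310985137750050) (y := 11922516032549197945218)
    (w := [false, true, true, false, true])
    (k := 11) (m := 11) (by norm_num) (by decide +kernel)

end Cfsg.Agent.N2C.RAlt
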