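import Cfsg.Agent.N2.Cl.RAlt.Big
import Cfsg.Agent.N2.Cl.RAlt.Deg
import Cfsg.Agent.N2.Cl.RAlt.Tri
import Cfsg.Agent.N2.Cl.RX.Sieve

/-!
# N2, class S, alternating socle: the row (helper62)
-/

set_option autoImplicit false
set_option maxHeartbeats 400000

namespace Cfsg.Agent.N2C.RAlt

open Cfsg Subgroup Cfsg.Agent.N2.Tg Cfsg.Agent.N2C.RX

/-- the primes used -/
def prs : List ℕ := [5, 7, 11, 13, 17, 19, 23, 29, 31, 37, 41, 43, 47, 53]

theorem prs_prime : ∀ r ∈ prs, r.Prime ∧ 2 < r := by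
  simp only [prs, List.forall_mem_cons]
  norm_num

/-- the test for a cycle of prime length which generates a Sylow subgroup -/
def okE (m : ℕ) (x : El) : Bool := x.sy && prs.contains x.r && Nat.ble x.r m && Nat.blt m (2 * x.r) && okJ m x.r x.j &&
  Nat.ble (2 * x.M) (x.r * (x.r - 1) * (m - x.r).factorial) && (!x.sc || Nat.ble m (x.r + 2))

def lbA (m p : ℕ) : ℕ := m - 1 - (if p ∣ m then 1 else 0)

/-- two primes for the degrees from 14 on -/
def tab (m : ℕ) : List El :=
  ((if m ≤ 14 then [(11, 2)] else if m ≤ 18 then [(11, 2), (13, 2)] else if m ≤ 20 then [(13, 2), (17, 3)]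
    else if m ≤ 24 then [(17, 3), (19, 2)] else if m ≤ 30 then [(19, 2), (23, 5)] else if m ≤ 32 then [(23, 5), (29, 2)]
    else if m ≤ 38 then [(29, 2), (31, 3)] else if m ≤ 42 then [(31, 3), (37, 2)] else if m ≤ 44 then [(37, 2), (41, 6)]
    else if m ≤ 48 then [(41, 6), (43, 3)] else if m ≤ 54 then [(43, 3), (47, 5)] else [(47, 5), (53, 2)] : List (ℕ × ℕ))).map
    fun x => ⟨x.1, x.2, 0, 0, 0, true, false⟩

theorem tab_a (m : ℕ) : ∀ x ∈ tab m, x.a = 0 := fun x hx => by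
  obtain ⟨y, -, rfl⟩ := List.mem_map.1 hx
  rfl

def row (m ta tb : ℕ) : Bool := (tab m).all (okE m) && frc m.factorial fun A => frc (A / 2) fun o =>
  chk o A (m - 2) (lbA m) (fun _ _ _ => false) ta tb (tab m)

theorem row_lo : allR (fun m => row m 2 3) 5 14 = true := by decide +kernel

theorem row_hi : allR (fun m => row m 0 0) 42 19 = true := by decide +kernel

variable {t : Kd} {n q p T : ℕ} {N : Type} [Group N] [Finite N] {G : Prop} {c d : N → ℕ} {m : ℕ}

theorem ok_of (e : N ≃* alternatingGroup (Fin m)) {x : El} (h : okE m x = true)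
    (ht : x.a ≠ 0 → Tri (alternatingGroup (Fin m)) x.a x.b x.r) : x.Ok N := by
  obtain ⟨r, j, M, a, b, sy, s⟩ := x
  simp only [okE, Bool.and_eq_true, Bool.or_eq_true, Nat.ble_eq, Nat.blt_eq, List.contains_iff_mem, Bool.not_eq_true'] at h
  obtain ⟨⟨⟨⟨⟨⟨rfl, h1⟩, h2⟩, h3⟩, h4⟩, h5⟩, h6⟩ := h
  obtain ⟨hr, h7⟩ := prs_prime r h1
  have h8 : 5 ≤ r := by
    by_contra k
    obtain rfl | rfl : r = 3 ∨ r = 4 := by omega
    · exact absurd h1 (by decide)
    · exact absurd h1 (by decide)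
  have h9 := not_sq_dvd_factorial hr h3
  refine El.ok_syl hr (fun k => h9 ?_) (fun k => ?_) ((cj hr h7 h2 h4).congr e.symm) (fun k => (ht k).congr e.symm)
    (fun _ => (nz hr h7 h2 h5).map e.symm.toMonoidHom e.symm.injective) fun k => (sc hr h7 h2 ?_).congr e.symm
  · rw [← two_mul_card (c := m) (by omega), ← Nat.card_congr e.toEquiv]
    exact k.mul_left 2
  · rw [card_aut' e (by omega)] at k
    split_ifs at k with h10
    · obtain rfl | rfl : r = 5 ∨ r = 6 := by omega
      · exact absurd k (by decide)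
      · exact absurd h1 (by decide)
    · exact h9 k
  · exact h6.resolve_left (by rw [k]; decide)

variable [IsSimpleGroup N]

theorem sieve_of (R : RX.Rp t n q p T N G c d) (hna : ¬ IsMulCommutative N) (e : N ≃* alternatingGroup (Fin m)) (hm : 5 ≤ m)
    {lo ta tb : ℕ} {lb : ℕ → ℕ} {sk : Kd → ℕ → ℕ → Bool} {els : List El} (hlo : lo ≤ n) (hlb : lb p ≤ n)
    (hsk : sk t n q = false) (ht : ta ≠ 0 → ∃ c, Tri (alternatingGroup (Fin m)) ta tb c) (he : ∀ x ∈ els, x.Ok N)
    (h : chk (m.factorial / 2) (if m = 6 then 1440 else m.factorial) lo lb sk ta tb els = true) : G :=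
  R.sieve hna ((Nat.card_congr e.toEquiv).trans (card_alt (by omega))) (card_aut' e hm).le hlo hlb hsk
    (fun k => (ht k).imp fun _ h => h.congr e.symm) he h

theorem nine_of (R : RX.Rp t n q p T N G c d) (hna : ¬ IsMulCommutative N) (e : N ≃* alternatingGroup (Fin m)) (hm : 9 ≤ m)
    {ta tb : ℕ} {els : List El} (ht : ta ≠ 0 → ∃ c, Tri (alternatingGroup (Fin m)) ta tb c) (he : ∀ x ∈ els, x.Ok N)
    (h : chk (m.factorial / 2) m.factorial (m - 2) (lbA m) (fun _ _ _ => false) ta tb els = true) : G := by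
  have h1 : lbA m p ≤ n := deg_nine R.prime R.core e hm
  refine sieve_of R hna e (by omega) (le_trans ?_ h1) h1 rfl ht he (by rwa [if_neg (by omega)])
  rw [lbA]
  split_ifs <;> omega

theorem row_of (R : RX.Rp t n q p T N G c d) (hna : ¬ IsMulCommutative N) (e : N ≃* alternatingGroup (Fin m)) (hm : 9 ≤ m)
    {ta tb : ℕ} (ht : ta ≠ 0 → ∃ c, Tri (alternatingGroup (Fin m)) ta tb c) (h : row m ta tb = true) : G := by
  rw [row, Bool.and_eq_true, List.all_eq_true, frc_eq, frc_eq] at h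
  exact nine_of R hna e hm ht (fun x hx => ok_of e (h.1 x hx) fun k => absurd (tab_a m x hx) k) h.2

/-- **the row of the alternating groups** -/
theorem rowAlt : RowX qAlt := by
  rintro - t n q p T N _ _ _ G c d hna ⟨hL, m, hm, ⟨e⟩⟩ R
  have h5 := five_le R.dim
  by_cases h1 : 61 ≤ m
  · exact big R hna e h1
  by_cases h2 : 19 ≤ m
  · exact row_of R hna e (by omega) (fun k => absurd rfl k) (allR_sound row_hi h2 (by omega))
  by_cases h3 : 14 ≤ m
  · refine row_of R hna e (by omega) (fun _ => ?_) (allR_sound row_lo h3 (by omega))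
    obtain rfl | rfl | rfl | rfl | rfl : m = 14 ∨ m = 15 ∨ m = 16 ∨ m = 17 ∨ m = 18 := by omega
    exacts [⟨_, tri_14_2_3_13⟩, ⟨_, tri_15_2_3_13⟩, ⟨_, tri_16_2_3_13⟩, ⟨_, tri_17_2_3_17⟩, ⟨_, tri_18_2_3_17⟩]
  have k0 : ∀ {P : Prop}, (0 : ℕ) ≠ 0 → P := fun k => absurd rfl k
  obtain rfl | rfl | rfl | rfl | rfl | rfl | rfl | rfl | rfl :
    m = 5 ∨ m = 6 ∨ m = 7 ∨ m = 8 ∨ m = 9 ∨ m = 10 ∨ m = 11 ∨ m = 12 ∨ m = 13 := by omega
  · refine sieve_of R hna e le_rfl (lb := fun p => if p = 2 ∨ p = 5 then 10 ^ 9 else 5) (sk := fun _ _ _ => false) (ta := 2)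
      (tb := 3) (els := [⟨5, 4, 0, 2, 3, true, false⟩]) h5 ?_ rfl (fun _ => ⟨_, tri_5_2_3_5⟩) ?_ (by decide +kernel)
    · rwa [if_neg fun k => hL (lie_of_alt e (Or.inl ⟨rfl, k⟩))]
    · simp only [List.forall_mem_singleton]
      exact ok_of e (by decide) fun _ => tri_5_2_3_5
  · refine sieve_of R hna e hm (lb := fun p => if p = 3 then 10 ^ 9 else 5)
      (sk := fun t n q => q == 2 && ((t == .S && n == 6) || ((t == .P || t == .M) && n == 8))) (tb := 0)
      (els := [⟨5, 4, 0, 2, 4, true, true⟩]) h5 ?_ ?_ k0 ?_ (by decide +kernel)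
    · rwa [if_neg fun k => hL (lie_of_alt e (Or.inr (Or.inl ⟨rfl, k⟩)))]
    · rw [← Bool.not_eq_true]
      simp only [Bool.and_eq_true, Bool.or_eq_true, beq_iff_eq]
      rintro ⟨rfl, k⟩
      obtain rfl : p = 2 := by
        obtain ⟨f, hf, k1⟩ := R.pow
        exact (Nat.prime_dvd_prime_iff_eq R.prime Nat.prime_two).1 (k1 ▸ dvd_pow_self p hf.ne')
      rcases k with ⟨rfl, k⟩ | ⟨rfl | rfl, k⟩
      · exact not_six R.core trivial e (Or.inl k)
      · exact not_six R.core trivial e (Or.inr k)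
      · exact not_six R.core trivial e (Or.inr k)
    · simp only [List.forall_mem_singleton]
      exact ok_of e (by decide) fun _ => tri_6_2_4_5
  · refine sieve_of R hna e hm (lb := fun _ => 5) (sk := fun _ _ _ => false) (tb := 0)
      (els := [⟨5, 2, 0, 0, 0, true, false⟩, ⟨7, 2, 0, 2, 4, true, true⟩]) h5 h5 rfl k0 ?_ (by decide +kernel)
    simp only [List.forall_mem_cons]
    exact ⟨ok_of e (by decide) k0, ok_of e (by decide) fun _ => tri_7_2_4_7, by simp⟩
  · have h7 : p ≠ 2 := fun k => hL (lie_of_alt e (Or.inr (Or.inr ⟨rfl, k⟩)))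
    have h8 := deg_eight R.prime h7 R.core e
    refine sieve_of R hna e hm (lb := fun p => if p = 2 then 10 ^ 9 else 7) (sk := fun _ _ _ => false) (tb := 0)
      (els := [⟨7, 2, 0, 2, 5, true, true⟩]) h8 ?_ rfl k0 ?_ (by decide +kernel)
    · rwa [if_neg h7]
    · simp only [List.forall_mem_singleton]
      exact ok_of e (by decide) fun _ => tri_8_2_5_7
  · refine nine_of R hna e le_rfl (tb := 0) (els := [⟨7, 3, 0, 2, 4, true, true⟩]) k0 ?_ (by decide +kernel)
    simp only [List.forall_mem_singleton]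
    exact ok_of e (by decide) fun _ => tri_9_2_4_7
  · refine nine_of R hna e (by omega) (ta := 2) (tb := 3) (els := [⟨7, 3, 126, 2, 5, true, false⟩, ⟨5, 2, 0, 2, 6, false, false⟩])
      (fun _ => ⟨_, tri_10_2_3_9⟩) ?_ (by decide +kernel)
    simp only [List.forall_mem_cons]
    exact ⟨ok_of e (by decide) fun _ => tri_10_2_5_7,
      El.ok_tri Nat.prime_five ((triJ Nat.prime_five tri_10_2_6_5 (by decide)).congr e.symm), by simp⟩
  · refine nine_of R hna e (by omega) (ta := 2) (tb := 3) (els := [⟨7, 3, 0, 0, 0, true, false⟩, ⟨11, 3, 0, 2, 3, true, false⟩])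
      (fun _ => ⟨_, tri_11_2_3_11⟩) ?_ (by decide +kernel)
    simp only [List.forall_mem_cons]
    exact ⟨ok_of e (by decide) k0, ok_of e (by decide) fun _ => tri_11_2_3_11, by simp⟩
  · refine nine_of R hna e (by omega) (ta := 2) (tb := 3) (els := [⟨7, 3, 0, 0, 0, true, false⟩, ⟨11, 3, 0, 2, 3, true, false⟩])
      (fun _ => ⟨_, tri_12_2_3_11⟩) ?_ (by decide +kernel)
    simp only [List.forall_mem_cons]
    exact ⟨ok_of e (by decide) k0, ok_of e (by decide) fun _ => tri_12_2_3_11, by simp⟩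
  · refine nine_of R hna e (by omega) (ta := 2) (tb := 3) (els := [⟨7, 3, 0, 0, 0, true, false⟩, ⟨11, 2, 0, 0, 0, true, false⟩])
      (fun _ => ⟨_, tri_13_2_3_13⟩) ?_ (by decide +kernel)
    simp only [List.forall_mem_cons]
    exact ⟨ok_of e (by decide) k0, ok_of e (by decide) k0, by simp⟩

/-- the row `salt` of class S -/
theorem onAlt (b0 : BoxRp0) (bs : BoxSemi) (bg : BoxGreen) : On (pRes qAlt) := on_of b0 bs bg rowAlt

end Cfsg.Agent.N2C.RAlt
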