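import Cfsg.Agent.N2.Cl.RAlt.Dat
import Cfsg.Agent.N2.Cl.RX.Gen
import Cfsg.Agent.H363.TwoPrimes

/-!
# N2, class S, alternating socle of degree at least 61 (helper62)
-/

set_option autoImplicit false
set_option maxHeartbeats 400000

namespace Cfsg.Agent.N2C.RAlt

open Subgroup Cfsg.Agent.N2.Tg Cfsg.Agent.N2C.RX Cfsg.Agent.N2C.RX.Gn

variable {t : Kd} {n q p T : ℕ} {N : Type} [Group N] {G : Prop} {c d : N → ℕ} {m r : ℕ}

/-- a rational element of prime order `r` forces the degree to be at least `r - 1` -/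
theorem le_of_rat (S : Semi t n q p N c d) (hr : r.Prime) (hp : r ≠ p) (h2 : 2 < r)
    (h : ∀ j, ¬ r ∣ j → Cj N r j) : r - 1 ≤ n := by
  have := Fact.mk hr
  obtain ⟨u, hu⟩ := IsCyclic.exists_generator (α := (ZMod r)ˣ)
  have h1 : (((u : ZMod r).val : ℕ) : ZMod r) = u := ZMod.natCast_zmod_val _
  obtain ⟨g, hg, hc⟩ := h (u : ZMod r).val fun k => u.ne_zero (by rw [← h1, ZMod.natCast_eq_zero_iff]; exact k)
  have h3 : (u : ZMod r) ≠ 1 := fun k => by
    have h4 := orderOf_eq_card_of_forall_mem_zpowers hu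
    rw [Units.val_eq_one.1 k, orderOf_one, Nat.card_eq_fintype_card, ZMod.card_units] at h4
    omega
  obtain ⟨μ, m1, m2, -, m4, -⟩ := S r g _ hp h2 hg hc (by rwa [h1])
  rw [h1] at m4
  have h5 : ∀ (k : ℕ) i, μ ((u : ZMod r) ^ k * i) = μ i := fun k i => by
    induction k with
    | zero => rw [pow_zero, one_mul]
    | succ k ih => rw [pow_succ', mul_assoc, m4, ih]
  have h6 : ∀ i, i ≠ 0 → μ i = μ 1 := fun i hi => by
    obtain ⟨k, hk⟩ := (mem_powers_iff_mem_zpowers.2 (hu (Units.mk0 i hi)))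
    rw [← h5 k 1, mul_one, ← Units.val_pow_eq_pow_val, show u ^ k = Units.mk0 i hi from hk, Units.val_mk0]
  rw [← Finset.add_sum_erase _ _ (Finset.mem_univ 0), Finset.sum_congr rfl fun i hi => h6 i (Finset.ne_of_mem_erase hi),
    Finset.sum_const, Finset.card_erase_of_mem (Finset.mem_univ _), Finset.card_univ, ZMod.card, smul_eq_mul] at m1
  have h7 : 1 ≤ μ 1 := Nat.one_le_iff_ne_zero.2 fun k => m2 (by rw [← m1, k, mul_zero, add_zero])
  have h8 := Nat.mul_le_mul_left (r - 1) h7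
  omega

theorem le_of_alt (S : Semi t n q p N c d) (e : N ≃* alternatingGroup (Fin m)) (hr : r.Prime) (hp : r ≠ p) (h2 : 2 < r)
    (h : r + 2 ≤ m) : r - 1 ≤ n :=
  le_of_rat S hr hp h2 fun j hj => by
    obtain ⟨g, hg⟩ := exists_order (c := m) hr h2 (by omega)
    exact Cj.congr e.symm ⟨g, hg, conj_all hr hg h hj⟩

theorem big_num (k : ℕ) (hk : 144 ≤ k) : 64 * (2 * k + 5).factorial ^ 2 ≤ 2 ^ EO k := by
  induction k, hk using Nat.le_induction with
  | base => decide +kernel
  | succ k hk ih =>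
    have h1 : EO k + (k / 2 - 7) ≤ EO (k + 1) := by
      obtain ⟨l, rfl⟩ : ∃ l, k = l + 144 := ⟨k - 144, by omega⟩
      have e1 : (l + 144) ^ 2 = l ^ 2 + 288 * l + 20736 := by ring
      have e2 : (l + 144 + 1) ^ 2 = l ^ 2 + 290 * l + 21025 := by ring
      have e3 : (l + 144) * (l + 144 - 1) = l ^ 2 + 287 * l + 20592 := by
        rw [show l + 144 - 1 = l + 143 by omega]; ring
      have e4 : (l + 144 + 1) * (l + 144 + 1 - 1) = l ^ 2 + 289 * l + 20880 := by
        rw [Nat.add_sub_cancel]; ring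
      rw [EO, EO, e1, e2, e3, e4]
      omega
    have h2 := H363.TwoPrimes.pow_ten_le (k / 2 - 7) (by omega)
    have h3 : (2 * k + 7) * (2 * k + 6) ≤ (k / 2 - 7 + 1) ^ 5 := by
      have h4 : 2 * k + 7 ≤ 5 * (k / 2 - 7 + 1) := by omega
      have h5 : 25 ≤ k / 2 - 7 + 1 := by omega
      generalize k / 2 - 7 + 1 = s at h4 h5
      calc _ ≤ (5 * s) * (5 * s) := Nat.mul_le_mul h4 (by omega)
        _ = 25 * s ^ 2 := by ring
        _ ≤ s * s ^ 2 := Nat.mul_le_mul_right _ h5
        _ = s ^ 3 := by ring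
        _ ≤ s ^ 5 := Nat.pow_le_pow_right (by omega) (by norm_num)
    calc 64 * (2 * (k + 1) + 5).factorial ^ 2 = 64 * (2 * k + 5).factorial ^ 2 * ((2 * k + 7) * (2 * k + 6)) ^ 2 := by
          rw [show 2 * (k + 1) + 5 = 2 * k + 5 + 1 + 1 by ring, Nat.factorial_succ, Nat.factorial_succ (2 * k + 5)]
          ring
      _ ≤ 2 ^ EO k * 2 ^ (k / 2 - 7) := Nat.mul_le_mul ih ((Nat.pow_le_pow_left h3 2).trans (by rw [← pow_mul]; exact h2))
      _ ≤ _ := by rw [← pow_add]; exact Nat.pow_le_pow_right two_pos h1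

theorem card_aut' (e : N ≃* alternatingGroup (Fin m)) (hm : 5 ≤ m) :
    Nat.card (MulAut N) = if m = 6 then 1440 else m.factorial :=
  (Nat.card_congr (MulAut.congr e).toEquiv).trans (card_aut hm)

variable [Finite N] [IsSimpleGroup N]

theorem big_of (R : Rp t n q p T N G c d) (hna : ¬ IsMulCommutative N) (e : N ≃* alternatingGroup (Fin m)) (hm : 7 ≤ m)
    {b k M : ℕ} (hb : b ≤ q) (hk : k ≤ n) (hM : m ≤ M) (h : 64 * M.factorial ^ 2 ≤ b ^ EO k) : G := by
  refine R.toRp0.generic hna ?_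
  rw [card_aut' e (by omega), if_neg (by omega)]
  have h2 := R.toRp0.two_le
  exact (Nat.mul_le_mul_left _ (Nat.pow_le_pow_left (Nat.factorial_le hM) 2)).trans (h.trans
    ((Nat.pow_le_pow_left hb _).trans (Nat.pow_le_pow_right (by omega) (EO_mono hk))))

theorem big_step (R : Rp t n q p T N G c d) (hna : ¬ IsMulCommutative N) (e : N ≃* alternatingGroup (Fin m))
    (r s M : ℕ) (hr : r.Prime) (hs : s.Prime) (h2 : 5 ≤ s ∧ s < r) (hM : m ≤ M) (hm : r + 2 ≤ m)
    (h : 64 * M.factorial ^ 2 ≤ 2 ^ EO (r - 1) ∧ 64 * M.factorial ^ 2 ≤ r ^ EO (s - 1)) : G := by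
  by_cases hp : r = p
  · refine big_of R hna e (by omega) ?_ (le_of_alt R.semi e hs (by omega) (by omega) (by omega)) hM h.2
    obtain ⟨f, hf, rfl⟩ := R.pow
    exact hp ▸ Nat.le_self_pow hf.ne' _
  · exact big_of R hna e (by omega) R.toRp0.two_le (le_of_alt R.semi e hr hp (by omega) hm) hM h.1

/-- **degree at least 61** -/
theorem big (R : Rp t n q p T N G c d) (hna : ¬ IsMulCommutative N) (e : N ≃* alternatingGroup (Fin m)) (hm : 61 ≤ m) :
    G := by
  by_cases h1 : m ≤ 64
  · exact big_step R hna e 59 53 64 (by norm_num) (by norm_num) (by norm_num) h1 (by omega) (by decide +kernel)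
  by_cases h2 : m ≤ 68
  · exact big_step R hna e 61 59 68 (by norm_num) (by norm_num) (by norm_num) h2 (by omega) (by decide +kernel)
  by_cases h3 : m ≤ 82
  · exact big_step R hna e 67 61 82 (by norm_num) (by norm_num) (by norm_num) h3 (by omega) (by decide +kernel)
  by_cases h4 : m ≤ 111
  · exact big_step R hna e 79 73 111 (by norm_num) (by norm_num) (by norm_num) h4 (by omega) (by decide +kernel)
  by_cases h5 : m ≤ 198
  · exact big_step R hna e 109 107 198 (by norm_num) (by norm_num) (by norm_num) h5 (by omega) (by decide +kernel)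
  by_cases h6 : m ≤ 300
  · exact big_step R hna e 197 193 300 (by norm_num) (by norm_num) (by norm_num) h6 (by omega) (by decide +kernel)
  obtain ⟨r, s, hr, hs, k1, k2, k3⟩ := H363.TwoPrimes.exists_two_primes' (m - 2) (by omega)
  have h7 : m / 2 - 2 ≤ n := by
    by_cases hp : r = p
    · have := le_of_alt R.semi e hs (by omega) (by omega) (by omega)
      omega
    · have := le_of_alt R.semi e hr hp (by omega) (by omega)
      omega
  exact big_of R hna e (by omega) R.toRp0.two_le h7 (by omega) (big_num _ (by omega))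

end Cfsg.Agent.N2C.RAlt
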