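import Cfsg.Agent.N2.Tri.Defs
import Cfsg.Agent.H575.QA.AltCyc
import Cfsg.Agent.H681.GmnAlt
import Cfsg.Agent.H824.ProdLem
import Cfsg.Agent.S2119

/-!
# N2, class S, alternating socle: elements of prime order (helper62)
-/

set_option autoImplicit false
set_option maxHeartbeats 400000

namespace Cfsg.Agent.N2C.RAlt

open Equiv Subgroup Cfsg.Agent.N2.Tg Cfsg.Agent.H575.QA

variable {c r : ℕ} {g : alternatingGroup (Fin c)}

theorem two_mul_card (hc : 2 ≤ c) : 2 * Nat.card (alternatingGroup (Fin c)) = c.factorial := by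
  have : Nontrivial (Fin c) := Fin.nontrivial_iff_two_le.2 hc
  rw [two_mul_nat_card_alternatingGroup, Nat.card_perm, Nat.card_fin]

theorem card_alt (hc : 2 ≤ c) : Nat.card (alternatingGroup (Fin c)) = c.factorial / 2 := by
  rw [← two_mul_card hc, Nat.mul_div_cancel_left _ two_pos]

theorem card_aut (hc : 5 ≤ c) :
    Nat.card (MulAut (alternatingGroup (Fin c))) = if c = 6 then 1440 else c.factorial := by
  split_ifs with h
  · subst h
    exact H824.ProdLem.card_aut_a6
  · rw [← Nat.card_congr (Equiv.ofBijective _ (S2119.result c (by omega) h)), Nat.card_perm, Nat.card_fin]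

theorem not_sq_dvd_factorial (hr : r.Prime) (h : c < 2 * r) : ¬ r ^ 2 ∣ c.factorial := by
  have h0 := hr.two_le
  rw [hr.pow_dvd_factorial_iff (b := 2) (Nat.log_lt_of_lt_pow' two_ne_zero (by nlinarith))]
  simp only [Nat.Ico_succ_singleton, Finset.sum_singleton, pow_one, not_le]
  exact Nat.div_lt_of_lt_mul (by omega)

theorem isConj_perm (hr : r.Prime) (hg : orderOf g = r) {i : ℕ} (hi : ¬ r ∣ i) :
    ∃ π : Perm (Fin c), π * g * π⁻¹ = (g : Perm (Fin c)) ^ i := by
  have := Fact.mk hr
  exact isConj_iff.1 (H681.GmnAlt.isConj_pow (p := r) (by rw [Subgroup.orderOf_coe, hg])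
    ((Nat.Prime.coprime_iff_not_dvd hr).2 hi).symm)

/-- squares -/
theorem conj_sq (hr : r.Prime) (hg : orderOf g = r) {i : ℕ} (hi : ¬ r ∣ i) : IsConj g (g ^ (i * i)) := by
  obtain ⟨π, h⟩ := isConj_perm hr hg hi
  refine H681.GmnAlt.isConj_alt (σ := π * π) (by
    rw [Perm.mem_alternatingGroup, map_mul]
    exact Int.units_mul_self _) ?_
  rw [Subgroup.coe_pow, pow_mul, ← h, conj_pow, ← h]
  group

/-- all powers -/
theorem conj_all (hr : r.Prime) (hg : orderOf g = r) (h : r + 2 ≤ c) {i : ℕ} (hi : ¬ r ∣ i) : IsConj g (g ^ i) := by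
  obtain ⟨π, hπ⟩ := isConj_perm hr hg hi
  have h1 : orderOf (g : Perm (Fin c)) = r := by rw [Subgroup.orderOf_coe, hg]
  have h7 : ¬ centralizer {(g : Perm (Fin c))} ≤ alternatingGroup (Fin c) := by
    rw [Perm.centralizer_le_alternating_iff]
    rintro ⟨-, h8, h9⟩
    obtain ⟨a, ha⟩ := Perm.cycleType_prime_order (σ := (g : Perm (Fin c))) (by rw [h1]; exact hr)
    have h10 := h9 r
    rw [ha, h1, Multiset.count_replicate_self] at h10
    rw [ha, h1, Multiset.sum_replicate, Fintype.card_fin, show a = 0 by omega, zero_add, one_smul] at h8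
    omega
  obtain ⟨z, hz1, hz2⟩ := SetLike.not_le_iff_exists.1 h7
  rw [Perm.mem_alternatingGroup] at hz2
  have hz3 : Perm.sign z = -1 := (Int.units_eq_one_or _).resolve_left hz2
  rcases Int.units_eq_one_or (Perm.sign π) with hs | hs
  · exact H681.GmnAlt.isConj_alt (Perm.mem_alternatingGroup.2 hs) hπ
  · refine H681.GmnAlt.isConj_alt (σ := π * z) (Perm.mem_alternatingGroup.2 (by rw [map_mul, hs, hz3]; decide)) ?_
    have hc4 : z * (g : Perm (Fin c)) = g * z := Subgroup.mem_centralizer_singleton_iff.1 hz1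
    rw [mul_assoc π, hc4, mul_inv_rev, Subgroup.coe_pow, ← hπ]
    group

/-- the test for `j` : not divisible by `r` if `r + 2 ≤ c`, a square otherwise -/
def okJ (c r j : ℕ) : Bool := j % r != 0 && (decide (r + 2 ≤ c) || (List.range r).any fun i => i * i % r == j % r)

theorem conj_of (hr : r.Prime) (hg : orderOf g = r) {j : ℕ} (h : okJ c r j = true) : IsConj g (g ^ j) := by
  simp only [okJ, Bool.and_eq_true, bne_iff_ne, Bool.or_eq_true, decide_eq_true_iff, List.any_eq_true, beq_iff_eq] at h
  obtain ⟨h1, h2 | ⟨i, -, h2⟩⟩ := h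
  · exact conj_all hr hg h2 fun k => h1 (Nat.mod_eq_zero_of_dvd k)
  · have h3 : g ^ j = g ^ (i * i) := by rw [← pow_mod_orderOf, hg, ← h2, ← hg, pow_mod_orderOf]
    rw [h3]
    exact conj_sq hr hg fun k => h1 (h2 ▸ Nat.mod_eq_zero_of_dvd (k.mul_right i))

theorem isPC (hr : r.Prime) (hg : orderOf g = r) (h : c < 2 * r) : IsPC r g := by
  have h1 : orderOf (g : Perm (Fin c)) = r := by rw [Subgroup.orderOf_coe, hg]
  have h2 : (g : Perm (Fin c)).IsCycle :=
    Perm.isCycle_of_prime_order' (by rw [h1]; exact hr) (by rw [h1, Fintype.card_fin]; exact h)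
  exact ⟨h2, by rw [← h2.orderOf, h1]⟩

theorem exists_order (hr : r.Prime) (h2 : 2 < r) (h : r ≤ c) : ∃ g : alternatingGroup (Fin c), orderOf g = r := by
  obtain ⟨x, hx⟩ := exists_isPC (n := c) hr (hr.odd_of_ne_two (by omega)) h
  exact ⟨x, hx.order⟩

theorem cj (hr : r.Prime) (h2 : 2 < r) (h : r ≤ c) {j : ℕ} (hj : okJ c r j = true) : Cj (alternatingGroup (Fin c)) r j := by
  obtain ⟨g, hg⟩ := exists_order hr h2 h
  exact ⟨g, hg, conj_of hr hg hj⟩

theorem triJ {a b j : ℕ} (hr : r.Prime) (h : Tri (alternatingGroup (Fin c)) a b r) (hj : okJ c r j = true) :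
    TriJ (alternatingGroup (Fin c)) a b r j := by
  obtain ⟨x, y, h1, h2, h3, h4⟩ := h
  exact ⟨x, y, h1, h2, h3, h4, conj_of hr h3 hj⟩

/-- the normaliser of a group generated by an `r`-cycle -/
theorem le_card_norm (hr : r.Prime) (h2 : 2 < r) (h : r ≤ c) (hg : IsPC r g) :
    r * (r - 1) * (c - r).factorial ≤ 2 * Nat.card (normalizer (zpowers g : Set (alternatingGroup (Fin c)))) := by
  have h1 := hg.index_le hr (hr.odd_of_ne_two (by omega)) h
  have h3 := (normalizer (zpowers g : Set (alternatingGroup (Fin c)))).card_mul_index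
  have h4 := two_mul_card (c := c) (by omega)
  have h5 := Nat.factorial_mul_descFactorial h
  have h6 : 0 < (normalizer (zpowers g : Set (alternatingGroup (Fin c)))).index := Nat.pos_of_ne_zero index_ne_zero_of_finite
  refine Nat.le_of_mul_le_mul_right ?_ h6
  calc _ = (c - r).factorial * (r * (r - 1) * (normalizer (zpowers g : Set (alternatingGroup (Fin c)))).index) := by ring
    _ ≤ (c - r).factorial * c.descFactorial r := Nat.mul_le_mul_left _ h1
    _ = _ := by rw [h5, ← h4, ← h3, mul_assoc]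

theorem nz (hr : r.Prime) (h2 : 2 < r) (h : r ≤ c) {m : ℕ} (hm : 2 * m ≤ r * (r - 1) * (c - r).factorial) :
    Nz (alternatingGroup (Fin c)) r m := by
  obtain ⟨x, hx⟩ := exists_isPC (n := c) hr (hr.odd_of_ne_two (by omega)) h
  have := le_card_norm hr h2 h hx
  exact ⟨x, hx.order, by omega⟩

/-- self-centralising cycles -/
theorem cent_le (h : c ≤ r + 2) (hg : IsPC r g) : centralizer {g} ≤ zpowers g := by
  classical
  have h1 : Nat.card (centralizer ({(g : Perm (Fin c))} : Set (Perm (Fin c)))) = (c - r).factorial * r := by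
    rw [Perm.nat_card_centralizer, hg.cycleType]
    simp
  have h2 : (centralizer {g}).map (alternatingGroup (Fin c)).subtype ≤ centralizer ({(g : Perm (Fin c))} : Set (Perm (Fin c))) := by
    rintro _ ⟨y, hy, rfl⟩
    exact mem_centralizer_singleton_iff.2 (congrArg Subtype.val (mem_centralizer_singleton_iff.1 hy))
  have h3 := card_map_of_injective (K := centralizer {g}) (alternatingGroup (Fin c)).subtype_injective
  have h4 : Nat.card (centralizer {g} : Subgroup (alternatingGroup (Fin c))) ≤ r := by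
    rcases Nat.lt_or_ge c (r + 2) with h5 | h5
    · have h6 := card_le_of_le h2
      rwa [h1, h3, Nat.factorial_eq_one.2 (by omega), one_mul] at h6
    · obtain ⟨k, hk⟩ := card_dvd_of_le h2
      rw [h1, h3, show c - r = 2 by omega, Nat.factorial_two] at hk
      by_contra h6
      have h0 : 0 < r := hg.order ▸ orderOf_pos g
      have h7 : k = 1 := by
        rcases k with _ | _ | k
        · omega
        · rfl
        · nlinarith
      have h8 := eq_of_le_of_card_ge h2 (by rw [h1, h3, show c - r = 2 by omega, Nat.factorial_two, hk, h7, mul_one])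
      have h9 : centralizer ({(g : Perm (Fin c))} : Set (Perm (Fin c))) ≤ alternatingGroup (Fin c) := by
        rw [← h8]
        exact map_subtype_le _
      have h10 := (Perm.centralizer_le_alternating_iff.1 h9).2.1
      rw [hg.cycleType, Multiset.sum_singleton, Fintype.card_fin] at h10
      omega
  refine (eq_of_le_of_card_ge (H := zpowers g) ?_ (by rw [Nat.card_zpowers, hg.order]; exact h4)).ge
  rw [zpowers_le]
  exact mem_centralizer_singleton_iff.2 rfl

theorem sc (hr : r.Prime) (h2 : 2 < r) (h : r ≤ c) (h' : c ≤ r + 2) : SC (alternatingGroup (Fin c)) r := by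
  obtain ⟨x, hx⟩ := exists_isPC (n := c) hr (hr.odd_of_ne_two (by omega)) h
  exact ⟨x, hx.order, cent_le h' hx⟩

end Cfsg.Agent.N2C.RAlt
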